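import Cfsg.Agent.Lib.ToddCox.Glue
set_option autoImplicit false
set_option maxRecDepth 100000
namespace Cfsg.Agent.Lib.ToddCox.SuzX
def E_0 : ℕ := 0x180000000000006000000000000140000000000005000000000006fc000000000003f0000060000001000000000000040000000000000c0000000000003000000000000fc000010000013f00000000000408000010000010200000400000404000010000010100000400000ffc000010000013f00000f000000080000000000002000000000000040000000000001000000000002fc000000000003f000002000006080000180000182000006000006040000180000181000006000006fc000044000047f00000600001104000018000018100001100001bfc000044000047f00001b00001710000018000018400001700000f08000010000010200000f000011000000440000440000011000011fc00008c00008ff000011000017fc000064000067f00001700000410000000000000400000400001efc000044000047f00001e000006000000180000180000006000006180000000000006000006000018fc00005c00005ff000018000018fc00008800008bf000018000019fc000060000063f00001900000afc000010000013f00000a00000000000000000000000000000001108000018000018200001100001efc00008c00008ff00001e00000ffc00005800005bf00000f00001ffc00007800007bf00001f00001ffc00008c00008ff00001f000005fc000010000013f00000500000bfc00001800001bf00000b000007fc00001800001bf000007000000080000080000082000000000022fc000064000067f00002200001afc000064000067f00001a000005fc000094000097f000005000009fc000014000017f000009000000fc000004000007f000000000014fc000044000047f000014000013fc00003c00003ff000013000008fc000034000037f000008000015fc000044000047f00001500000ffc00004000004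3f00000f000020fc00003c00003ff00002000000efc000000000003f00000e000002fc000090000093f000002000009fc000094000097f000009000003fc00000800000bf000003000003fc000090000093f000003000012fc00003800003bf000012000015140000900000905000015000012100000240000244000012000021fc00004800004bf00002100002410000080000080400002400002510000038000038400002500000e1800002c00002c600000e00000e1400001c00001c500000e000026fc000094000097f00002600000efc000074000077f00000e00001d0c000098000098300001d0000260800004000004020000260000200c000090000090300002000002504000080000080100002500002218000094000094600002200001a14000094000094500001a0000251000007400007440000250000240800004800004820000240000230000004400004400000230000221000002c00002c400002200001f00000054000054000001f00001e0800002c00002c200001e00001d1800002c00002c600001d00001c14000030000030500001c00001a1000001c00001c400001a0000191000001800001840000190000170c00001800001830000170000150800001c00001c200001500001408000018000018200001400001308000014000014200001300001004000014000014100001000000f04000010000010100000f00000b00000018000018000000b0000080000000c00000c000000800000e10000098000098400000e00000e0c000094000094300000e00000e04000090000090100000e00000d1400008c00008c500000d00000a14000088000088500000a0000091000008400008440000090000090800008000008020000090000081800007c00007c60000080000081400007800007850000080000071400007400007450000070000061800007000007060000060000060400006c00006c10000060000051800006800006860000050000051400006400006450000050000041800006000006060000040000041400005c00005c50000040000040800005800005820000040000031800005400005460000030000031400005000005050000030000031000004c00004c40000030000030400004800004810000030000021400004400004450000020000021000004000004040000020000020c00003c00003c30000020000020800003800003820000020000020000003400003400000020000011800003000003060000010000011400002c00002c50000010000011000002800002840000010000010c00002400002430000010000010800002000002020000010000001800001c00001c60000000000001400001800001850000000000001000001400001440000000000000c00001000001030000000000000800000c00000c2000000000000040000080000081000000000000000000040000040000000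
end Cfsg.Agent.Lib.ToddCox.SuzX
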