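import Cfsg.Agent.Lib.ToddCox.SuzX.Data
set_option autoImplicit false
set_option maxRecDepth 100000
namespace Cfsg.Agent.Lib.ToddCox.SuzX
theorem wordsGood : allBelow (wordsOK W (relR Rb inv) inv sp) nW 6 = true := by decide +kernel
theorem d0 : allBits (fun k => bif Nat.blt k 38 then chkDef Eo inv k else true) 13 0 = true := by decide +kernel
def L0 : List ℕ := [nat_lit 0x88000020000006000008000003f00004300001b400003400004600004200001d400003200007e00002500000600000fa00006300000b80001f400007000001600003d00001f000009200001500002580001e80000dc00004800002580001e800002800006e00003800000c80000a4000078000009800012800003400001f00000200001d000009000004700000900001c800008400001200000880000fc00002200006900003100001b800002000005f00001c80001b800001e00004800000d000000800001a0000390000070000118000034000002000002800008c00001a00004400000c0000084000002000042000009000005400001000003c00002680000a400001800003a000007000005400000a000038000006000002c00006e00006100000b0000054000016000036000005000000400002e00000a000019000002000001a00000900001800000200000160000080000160000018000016000007000014000001000001a0000060000130000010000016000005000012000001000001200000400000f000000800001200000300000e000000800000e00000200000a0000000000016000001000007000000000000a000000,nat_lit 0x64800010800018a00002d000014000031800015c00002000005600000c800016e00002f00001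5000004800014c00000900005b800009000014e00000000001480002900000ae00002700005d00002e40000400000a200002a80002dc00005600001e00005c800011000014000003b000014000019c00013e00006a000011800014800013800005100000e800020800013200000d0000598000098000100000099000005800008800013000001a00001380001cc00015400003300005680000980000e20000aa0000188000088000150000095000010000025400010a000099000004800008400013000004900004a000004000004a0000260000498000084000044000024000049800007c000138000024000026800024c000032000023000046800025800004200002200004d000021800012c00001f00001080001dc00012c00001d00000a800011c00012c00000200000e8000248000122000020000045000023c00010800001f00004880001b400011e00001a00000f000008c00011e00004700000e80001b0000118000059000040000007000005000002300003600001d800010c00001b]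
theorem s0 : chkChunks Eo inv W isH 32 L0 38 = true := by decide +kernel
theorem c0 : Covered Eo inv W isH 38 102 := covered_of_chunks 32 L0 38 102 rfl s0
theorem s1 : chkStream Eo inv W isH 26 102 0x3e800019a00001700007d000002800002c00000a00006180003ac0001da00000b00006780003940001ce00000a00006180003ac0001da00000b00006780003940001ce00000a00006180003ac0001da00003100007a800034c0000300000f500000300000c000000e0000d300007580003b400000e0000f300000300003ac0001da00000700007980000180001d60000ed00000380003cc00000c0000eb000076800001c0001e600000600007580003b400000e0000f300000300003480001e20000f300000300003b400000e0000f100007980000180001da00000700007880003cc00000c0000ed00000380003c40001e6000006000076800001c0001e20000f300000300003b400000e0000d300007580003b400000e0000f300000300003ac0001da00000700007980000180001d60000ed00000380003cc00000c0000eb000076800001c0001e600000600007580003b400000e0000f300001780003b80001b6000027000077000014400005a00001c000074800001c00002a0000e8000058000009c0001d000000200001680000840001c400000a000011000038c000182000027000071800038400005a0000cf00007000003640001c20000cf00007000003640001c20000cf00007000000b80001bc00003400001680000d000019a00000b00006e000016c00018000002c00006a80001740000300000bd000015000009c0001ae00006b000014800034000017e00002000006500003180000400000b600000400000600000ca0000b500006000000ac00016800004f00001480002c8000018000017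 = true := by decide +kernel
theorem c1 : Covered Eo inv W isH 102 128 := covered_of_stream 26 102 _ s1
theorem l0 : chkPoints Eo cF (2 * nEv) N ys 1 0 0x1fe00000000007e80000000001f200000000007b80000000001da0000000000758000000000186000000 = true := by decide +kernel
theorem k0 : LinksOK Eo cF (2 * nEv) N ys 0 1 := linksOK_of_points 1 0 _ l0
end Cfsg.Agent.Lib.ToddCox.SuzX
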